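import Cfsg.Agent.Lib.TwistE6D4.Facts
import Cfsg.Agent.Lib.RGD.InvolutionForm
import Cfsg.Agent.Lib.ChevCentralizer.Classify
import Cfsg.Agent.Lib.ChevOrder.Weyl

/-!
# Involutions of a twisted group as ambient monomial elements

In characteristic two the representatives of the folded Weyl group are ambient representatives
(`nw_amb`), so `RGD.InvolutionForm` gives `exists_monomial`: every involution of `G0` is conjugate in
`G0` to a monomial involution whose Weyl element, on each fundamental root, either changes the sign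
or gives a member of the same orbit.  Also: orbit elements with parameter one lie in `G0`.
-/

set_option autoImplicit false
set_option linter.unusedSectionVars false

namespace Cfsg.Agent.TwistE6Invol

open Cfsg.Lie Cfsg.Lie.ChevalleyDatum Cfsg.Agent.Chev Cfsg.Agent.ChevBN

variable {D : ChevalleyDatum} {K : Type*} [Field K] (C : TwistE6D4.Ctx D K)

/-- The ambient word of a node. -/
def blockW (a : Fin C.m) : List (Fin D.rank) := (List.range (C.L a)).map (C.nd a)

/-- The ambient word of a word in the nodes. -/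
def ambW (l : List (Fin C.m)) : List (Fin D.rank) := l.flatMap (blockW C)

variable [CharP K 2]

theorem cast_eq_one {e : ℤ} (h : e * e = 1) : (e : K) = 1 := by
  rcases mul_self_eq_one_iff.1 h with rfl | rfl <;> simp [CharTwo.neg_eq]

theorem esgn_eq_one {r : ℕ} (hr : r < D.nroots) (i : ℕ) : (TwistE6D4.esgn C.T r i : K) = 1 := by
  induction i with
  | zero => simp [TwistE6D4.esgn]
  | succ i ih =>
    rw [TwistE6D4.esgn, List.range_succ, List.map_append, List.prod_append, Int.cast_mul, ← TwistE6D4.esgn, ih]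
    simp [cast_eq_one (K := K) (C.hT.eps_sq _ (C.hT.iter_lt hr i))]

theorem orb_one {r : ℕ} (hr : r < D.nroots) :
    TwistE6D4.orb C.hD C.T C.φ r (1 : K) =
      ((List.range (C.T.len r)).map fun i => xg C.hD K (C.T.rho^[i] r) 1).prod := by
  refine congrArg List.prod (List.map_congr_left fun i _ => ?_)
  rw [TwistE6D4.cf, esgn_eq_one C hr, one_mul, ← RingHom.coe_pow, map_one]

/-- The orbit of a root, starting with it. -/
def orbitOf (T : TwistE6D4.Twist D) (r : ℕ) : List ℕ := if T.rho r = r then [r] else [r, T.rho r]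

theorem orbit_mem_G0 {l : List (Fin C.m)} (hl : TwistE6D4.NegW C.T C.node l)
    (hlen : ∀ r ∈ C.T.reps, C.T.len r ≤ 2) {r : ℕ} (hr : r < D.nroots) :
    ((orbitOf C.T r).map fun q => xg C.hD K q 1).prod ∈ C.G0 := by
  obtain ⟨hs, i, hi, e⟩ := C.repOf_spec hr
  set s := C.repOf r with hs'
  have hm : TwistE6D4.orb C.hD C.T C.φ s (1 : K) ∈ C.G0 :=
    C.Uo_le_G0 hl ⟨s, hs⟩ (C.orb_mem_Uo hs (by rw [← RingHom.coe_pow, map_one]))
  rw [orb_one C (C.hT.rep_lt s hs).1] at hm
  have hlast := (C.hT.rep_lt s hs).2.2.1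
  have h2 := hlen s hs
  rcases (show C.T.len s = 1 ∨ C.T.len s = 2 by omega) with e1 | e1
  · obtain rfl : i = 0 := by omega
    simp only [Function.iterate_zero_apply] at e
    rw [e] at hm hlast e1
    rw [e1] at hm hlast
    have hfix : C.T.rho r = r := hlast
    simpa [orbitOf, hfix] using hm
  · have hne : C.T.rho s ≠ s := fun h => by
      have := (C.hT.rep_inj s hs s hs 1 (by omega) 0 (by omega) (by simpa using h)).2
      omega
    rw [e1] at hm hlast
    have hlast' : C.T.rho (C.T.rho s) = s := hlast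
    have hm' : xg C.hD K s 1 * xg C.hD K (C.T.rho s) 1 ∈ C.G0 := by
      simpa [List.range_succ] using hm
    rcases (show i = 0 ∨ i = 1 by omega) with rfl | rfl
    · simp only [Function.iterate_zero_apply] at e
      rw [← e]
      simpa [orbitOf, hne] using hm'
    · rw [Function.iterate_one] at e
      have hc := TwistE6D4.orbit_commute C.hT C.hD hs (i := 0) (j := 1) (by omega) (by omega) (1 : K) 1
      simp only [Function.iterate_zero_apply, Function.iterate_one] at hc
      rw [← e]
      simp only [orbitOf, hlast', if_neg hne.symm, List.map_cons, List.map_nil, List.prod_cons,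
        List.prod_nil, mul_one]
      rw [TwistE6D4.xg_eq C.hD, TwistE6D4.xg_eq C.hD] at hm' ⊢
      rwa [← hc.eq]

variable {M : List (List ℤ)} {d : ℤ} (hR : Roots D M d)
include hR

theorem n_node (a : Fin C.m) : C.rgd.n a = (chevRGD C.hD hR K).nw (blockW C a) := by
  show C.ns a 1 = _
  rw [RGD.RootData.nw, blockW, List.map_map]
  refine congrArg List.prod (List.map_congr_left fun k _ => ?_)
  show ng C.hD K (C.rk a k) ((⇑C.φ)^[k] 1) = ng C.hD K (D.simple (C.nd a k).val) 1
  rw [C.rk_eq, ← RingHom.coe_pow, map_one]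

/-- The twisted representatives are ambient representatives. -/
theorem nw_amb (l : List (Fin C.m)) : C.rgd.nw l = (chevRGD C.hD hR K).nw (ambW C l) := by
  induction l with
  | nil => rfl
  | cons a l ih =>
    rw [RGD.RootData.nw_cons, ih, n_node C hR, show ambW C (a :: l) = blockW C a ++ ambW C l from List.flatMap_cons, RGD.RootData.nw_append]

omit [CharP K 2] in
theorem ww_block (a : Fin C.m) (q : Fin D.nroots) :
    ((chevRGD C.hD hR K).ww (blockW C a) q).val = TwistE6D4.wF C.T (C.node a) q.val := by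
  rw [← C.wF_eq, blockW]
  induction List.range (C.L a) with
  | nil => rfl
  | cons k L ih =>
    simp only [List.map_cons, RGD.RootData.ww_cons]
    show wN D (C.nd a k).val ((chevRGD C.hD hR K).ww (L.map (C.nd a)) q).val = _
    rw [ih]
    show _ = Chev.refl D (C.rk a k) _
    rw [C.rk_eq]
    rfl

omit [CharP K 2] in
theorem ww_amb (l : List (Fin C.m)) (q : Fin D.nroots) :
    ((chevRGD C.hD hR K).ww (ambW C l) q).val = TwistE6D4.wW C.T C.node l q.val := by
  induction l with
  | nil => rfl
  | cons a l ih =>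
    rw [ambW, List.flatMap_cons, RGD.RootData.ww_append, ww_block C hR]
    show TwistE6D4.wF C.T (C.node a) ((chevRGD C.hD hR K).ww (ambW C l) q).val = _
    rw [ih]
    rfl

theorem hid (l : List (Fin C.m)) (h : C.rgd.nw l ∈ C.rgd.H) (r : C.Orb) : C.rgd.ww l r = r := by
  have h1 : (chevRGD C.hD hR K).nw (ambW C l) ∈ D.diagonalSubgroup K := by
    rw [← nw_amb C hR]; exact C.H0_le_diagonal h
  have h2 := congrArg Fin.val (ChevOrder.ww_eq_self C.hD hR h1 ⟨r.1, C.orb_lt r⟩)
  rw [ww_amb C hR] at h2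
  refine Subtype.ext ?_
  rw [(C.ww_val l r).2, h2]
  exact C.repOf_self r.2

/-- Every involution of `G0` is conjugate to a monomial involution of ambient form. -/
theorem exists_monomial {l0 : List (Fin C.m)} (hl0 : TwistE6D4.NegW C.T C.node l0)
    {t : GL D.Idx K} (ht : t ∈ C.G0) (htt : t * t = 1) :
    ∃ c ∈ C.G0, ∃ h ∈ C.H0, ∃ L : List (Fin D.rank), (chevRGD C.hD hR K).nw L ∈ C.G0 ∧
      c * t * c⁻¹ = h * (chevRGD C.hD hR K).nw L ∧
      h * (chevRGD C.hD hR K).nw L * (h * (chevRGD C.hD hR K).nw L) = 1 ∧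
      ∀ k : Fin D.rank,
        (¬ D.IsPosRoot ((chevRGD C.hD hR K).ww L ((chevRGD C.hD hR K).simple k)).val ∧
          ∀ i, ¬ D.IsPosRoot ((chevRGD C.hD hR K).ww L ((chevRGD C.hD hR K).simple (C.T.pi^[i] k))).val) ∨
        ∃ i, ((chevRGD C.hD hR K).ww L ((chevRGD C.hD hR K).simple k)).val = D.simple (C.T.pi^[i] k).val := by
  have : Finite C.Orb := C.T.reps.finite_toSet.to_subtype
  have : Fintype C.Orb := Fintype.ofFinite _
  rw [← C.rgd_G] at ht
  obtain ⟨c, hc, h, hh, l, e, hm, hsq, hl⟩ := C.rgd.exists_monomial_involution (hid C hR) (l0 := l0)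
    (fun r hr hp => hl0 r.1 r.2 hr ((C.pos_ww l0 r).1 hp)) ht htt
  refine ⟨c, C.rgd_G ▸ hc, h, hh, ambW C l, ?_, ?_, ?_, fun k => ?_⟩
  · rw [← nw_amb C hR, ← C.rgd_G]; exact C.rgd.N_le_G (C.rgd.nw_mem_N l)
  · rw [← nw_amb C hR]; exact e
  · rw [← nw_amb C hR]; exact hm
  obtain ⟨a, j, hj, rfl⟩ := C.nd_surj k
  set R := chevRGD C.hD hR K
  have hrep := C.hR.rep_simple a
  set r : C.Orb := ⟨C.p a, hrep⟩
  have hval : ∀ i, ((R.ww (ambW C l) (R.simple (C.nd a i))).val) =
      C.T.rho^[i] (TwistE6D4.wW C.T C.node l (C.p a)) := by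
    intro i
    rw [ww_amb C hR]
    show TwistE6D4.wW C.T C.node l (D.simple (C.nd a i).val) = _
    rw [← C.rk_eq]
    clear hl hsq hm e
    induction l with
    | nil => rfl
    | cons b l ih =>
      show TwistE6D4.wF C.T (C.node b) (TwistE6D4.wW C.T C.node l (C.rk a i)) = _
      rw [ih, C.wF_iter b (C.ww_val l r).1]
      rfl
  have hit : ∀ i, C.T.pi^[i] (C.nd a j) = C.nd a (i + j) := fun i =>
    (Function.iterate_add_apply C.T.pi i j (C.node a)).symm
  have hlt := (C.ww_val l r).1
  rcases hl a with hn | hf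
  · left
    have hn' : ¬ 0 < C.T.ht (TwistE6D4.wW C.T C.node l (C.p a)) := fun h => hn ((C.pos_ww l r).2 h)
    have hneg : ∀ i, ¬ D.IsPosRoot (R.ww (ambW C l) (R.simple (C.nd a i))).val := by
      intro i hp
      rw [hval, C.hT.ht_pos _ (C.hT.iter_lt hlt i), C.hT.ht_iter hlt] at hp
      exact hn' hp
    exact ⟨hneg j, fun i => by rw [hit]; exact hneg (i + j)⟩
  · right
    have h1 : C.repOf (TwistE6D4.wW C.T C.node l (C.p a)) = C.p a := by
      rw [← (C.ww_val l r).2]
      exact congrArg Subtype.val hf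
    obtain ⟨i, -, ei⟩ := (C.repOf_spec hlt).2
    rw [h1] at ei
    refine ⟨i, ?_⟩
    rw [hval, ← ei, ← Function.iterate_add_apply, hit]
    show C.rk a (j + i) = _
    rw [C.rk_eq, Nat.add_comm]

end Cfsg.Agent.TwistE6Invol
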