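import Cfsg.Agent.Lib.TwistE6Invol.Ambient
import Cfsg.Agent.Lib.ChevCentralizer.E6Base
import Cfsg.Agent.Lib.ChevBN.RootTables
import Cfsg.Agent.Lib.TwistE6D4.Words

/-!
# The case check for the involutions of ²E₆(q)

The steps act on whole orbits, so that the conjugating elements lie in the twisted group.
-/

set_option autoImplicit false

namespace Cfsg.Agent.TwistE6Invol

open Cfsg.Lie Cfsg.Agent.ChevBN Cfsg.Agent.ChevInvolution

/-- A step on orbits. -/
inductive TOp
  | nb (a : Fin 4)
  | xb (s : ℕ)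
  | swap (p : ℕ)
  | cancel (p : ℕ)
  deriving DecidableEq

/-- The fundamental indices of a node. -/
def blockN (a : Fin 4) : List ℕ := [[1], [3], [2, 4], [0, 5]].getD a.val []

/-- The orbit of a root. -/
def orbitE (s : ℕ) : List ℕ := orbitOf TwistE6D4.e6Twist s

/-- One step. -/
def stepT : TOp → List ℕ → Option (List ℕ)
  | TOp.nb a, L => run chevE6 ((blockN a).reverse.map Op.n) L
  | TOp.xb s, L => if s < chevE6.nroots then run chevE6 ((orbitE s).reverse.map Op.x) L else none
  | TOp.swap p, L => stepOp chevE6 (Op.swap p) L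
  | TOp.cancel p, L => stepOp chevE6 (Op.cancel p) L

/-- The steps in order. -/
def runT : List TOp → List ℕ → Option (List ℕ)
  | [], L => some L
  | o :: os, L =>
    match stepT o L with
    | some L' => runT os L'
    | none => none

/-- The targets: the three representatives and one further element. -/
def repsT : List (List ℕ) := [[71], [68, 66], [55, 67, 65], [71, 68, 66]]

/-- A case: the fixed fundamental roots, a word in them, and either nothing or orbit heads with steps. -/
structure CaseT where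
  K : List ℕ
  lK : List ℕ
  cert : Option (List ℕ × List TOp)

/-- The roots of some orbits. -/
def expandS (S0 : List ℕ) : List ℕ := S0.flatMap orbitE

/-- The validity of a case. -/
def CaseTOK (c : CaseT) : Prop :=
  (∀ i ∈ c.lK, i ∈ c.K) ∧ (∀ k ∈ c.K, k < chevE6.rank) ∧
  (∀ k ∈ c.K, ∃ k' ∈ c.K, wW chevE6 c.lK (chevE6.simple k) = chevE6.neg (chevE6.simple k')) ∧
  match c.cert with
  | none => ∃ k ∈ c.K, ∃ k' ∈ c.K, wW chevE6 c.lK (chevE6.simple k) = chevE6.neg (chevE6.simple k') ∧
      E6.tau.getD k' 0 ≠ k ∧ E6.tau.getD k' 0 ≠ E6.tau.getD k 0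
  | some (S0, ops) =>
    (∀ b ∈ S0, b < chevE6.nroots ∧ orbitE (chevE6.neg b) = (orbitE b).map chevE6.neg) ∧
    (∀ b ∈ expandS S0, b < chevE6.nroots) ∧ (expandS S0).Nodup ∧
    (∀ b ∈ expandS S0, ∀ b' ∈ expandS S0, b' ≠ b → ∀ p ∈ [b, chevE6.neg b], ∀ p' ∈ [b', chevE6.neg b'],
      p' = p ∨ (p' ≠ chevE6.neg p ∧ ∀ τ ∈ chevE6.commTerms p p', τ.2.1 % 2 = 0)) ∧
    (∀ i < chevE6.rank, ∀ a < chevE6.rank,
      co chevE6 adjE6 a (ChevInvolution.sigma chevE6 (expandS S0) (chevE6.simple i)) =
        - co chevE6 adjE6 (E6.tau.getD a 0) (wW chevE6 c.lK (chevE6.simple i))) ∧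
    (expandS S0 = [] ∨ ∃ R ∈ repsT, runT ops (expandS S0) = some R)

instance (c : CaseT) : Decidable (CaseTOK c) := by
  unfold CaseTOK
  rcases c.cert with _ | ⟨S, ops⟩ <;> infer_instance

end Cfsg.Agent.TwistE6Invol
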