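import Cfsg.Agent.Lib.TwistE6Invol.CaseDefs

/-!
# Certificates for the involution classes of ²E₆(q), q even
-/

set_option autoImplicit false
set_option maxRecDepth 100000
set_option synthInstance.maxSize 4000

namespace Cfsg.Agent.TwistE6Invol

open Cfsg.Lie

/-- The certificates. -/
def casesT : List CaseT := [
  ⟨[], [], some ([71, 60, 44, 39], [.swap 0, .swap 1, .swap 0, .swap 2, .swap 1, .swap 0, .nb 0, .xb 46, .swap 4, .swap 3, .swap 2, .swap 1, .cancel 0, .xb 60, .swap 0, .swap 2, .swap 1, .swap 3, .swap 5, .swap 4, .swap 3, .swap 6, .cancel 7, .swap 6, .swap 5, .swap 4, .swap 3, .cancel 2, .xb 39, .swap 6, .swap 5, .swap 4, .swap 3, .swap 2, .swap 1, .cancel 0, .cancel 4, .cancel 5, .xb 44, .swap 5, .swap 4, .swap 3, .swap 2, .swap 1, .cancel 0, .swap 1, .cancel 2, .cancel 3, .nb 1, .nb 2, .nb 3, .nb 1, .nb 2, .nb 1, .xb 33, .swap 0, .swap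 4, .swap 3, .swap 2, .swap 1, .cancel 0, .swap 3, .swap 2, .swap 4, .swap 3, .swap 2, .swap 1, .cancel 0, .swap 1, .cancel 0, .swap 2, .xb 37, .swap 5, .swap 4, .swap 3, .swap 2, .cancel 1, .swap 3, .swap 5, .swap 4, .swap 3, .swap 2, .swap 1, .cancel 0, .cancel 5, .xb 36, .swap 1, .swap 3, .cancel 4, .swap 5, .swap 4, .swap 3, .cancel 2, .swap 4, .swap 3, .swap 2, .swap 1, .cancel 0, .cancel 3, .swap 1])⟩,
  ⟨[1], [1], some ([69, 65, 53], [.swap 0, .swap 1, .swap 0, .xb 33, .swap 0, .swap 4, .swap 3, .swap 2, .swap 1, .cancel 0, .swap 3, .swap 2, .swap 4, .swap 3, .swap 2, .swap 1, .cancel 0, .swap 1, .cancel 0, .swap 2, .xb 37, .swap 5, .swap 4, .swap 3, .swap 2, .cancel 1, .swap 3, .swap 5, .swap 4, .swap 3, .swap 2, .swap 1, .cancel 0, .cancel 5, .xb 36, .swap 1, .swap 3, .cancel 4, .swap 5, .swap 4, .swap 3, .cancel 2, .swap 4, .swap 3, .swap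 2, .swap 1, .cancel 0, .cancel 3, .swap 1])⟩,
  ⟨[3], [3], some ([71, 60, 44], [.swap 0, .swap 1, .swap 0, .nb 0, .nb 1, .xb 33, .swap 0, .swap 4, .swap 3, .swap 2, .swap 1, .cancel 0, .swap 3, .swap 2, .swap 4, .swap 3, .swap 2, .swap 1, .cancel 0, .swap 1, .cancel 0, .swap 2, .xb 37, .swap 5, .swap 4, .swap 3, .swap 2, .cancel 1, .swap 3, .swap 5, .swap 4, .swap 3, .swap 2, .swap 1, .cancel 0, .cancel 5, .xb 36, .swap 1, .swap 3, .cancel 4, .swap 5, .swap 4, .swap 3, .cancel 2, .swap 4, .swap 3, .swap 2, .swap 1, .cancel 0, .cancel 3, .swap 1])⟩,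
  ⟨[1, 3], [1, 3, 1], none⟩,
  ⟨[2, 4], [2, 4], some ([66, 53, 46], [.swap 1, .swap 0, .swap 2, .swap 1, .swap 0, .nb 3, .swap 1, .nb 2, .swap 2, .nb 1, .nb 2, .swap 0, .nb 3, .swap 1, .xb 31, .swap 0, .swap 5, .swap 4, .swap 3, .swap 2, .swap 1, .cancel 0, .swap 2, .swap 1, .swap 5, .swap 6, .swap 5, .swap 4, .swap 3, .swap 2, .swap 1, .cancel 0, .swap 1, .cancel 0, .swap 3, .cancel 2, .swap 3, .xb 60, .swap 0, .swap 2, .swap 1, .swap 3, .swap 5, .swap 4, .cancel 3, .swap 4, .cancel 3, .swap 3, .swap 4, .swap 3, .cancel 2, .xb 46, .swap 4, .swap 3, .swap 2, .swap 1, .cancel 0, .cancel 3, .nb 3, .nb 2, .nb 1, .nb 2, .swap 1, .swap 1])⟩,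
  ⟨[1, 2, 4], [1, 2, 4], some ([66, 53], [.swap 1, .swap 0, .nb 3, .swap 0, .swap 1])⟩,
  ⟨[2, 3, 4], [2, 3, 2, 4, 3, 2], some ([71, 60], [.swap 0, .xb 23, .swap 0, .swap 3, .swap 2, .swap 1, .cancel 0, .swap 2, .swap 3, .swap 2, .swap 1, .cancel 0, .swap 1, .cancel 0, .swap 1, .swap 1, .swap 0, .swap 1])⟩,
  ⟨[1, 2, 3, 4], [1, 2, 3, 1, 2, 3, 4, 3, 1, 2, 3, 4], some ([66], [.swap 0])⟩,
  ⟨[0, 5], [0, 5], some ([54, 69, 46], [.swap 2, .swap 1, .swap 0, .nb 1, .nb 2, .swap 0, .nb 3, .swap 1, .xb 31, .swap 0, .swap 5, .swap 4, .swap 3, .swap 2, .swap 1, .cancel 0, .swap 2, .swap 1, .swap 5, .swap 6, .swap 5, .swap 4, .swap 3, .swap 2, .swap 1, .cancel 0, .swap 1, .cancel 0, .swap 3, .cancel 2, .swap 3, .xb 60, .swap 0, .swap 2, .swap 1, .swap 3, .swap 5, .swap 4, .cancel 3, .swap 4, .cancel 3, .swap 3, .swap 4, .swap 3, .cancel 2, .xb 46, .swap 4, .swap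 3, .swap 2, .swap 1, .cancel 0, .cancel 3, .nb 3, .nb 2, .nb 1, .nb 2, .swap 1, .swap 1])⟩,
  ⟨[0, 1, 5], [0, 1, 5], some ([54, 69], [.nb 2, .swap 1, .swap 1])⟩,
  ⟨[0, 3, 5], [0, 3, 5], some ([45, 71], [.nb 0, .nb 1, .nb 2, .swap 1, .swap 1])⟩,
  ⟨[0, 1, 3, 5], [0, 1, 3, 1, 5], none⟩,
  ⟨[0, 2, 4, 5], [0, 2, 0, 4, 5, 4], none⟩,
  ⟨[0, 1, 2, 4, 5], [0, 1, 2, 0, 4, 5, 4], none⟩,
  ⟨[0, 2, 3, 4, 5], [0, 2, 0, 3, 2, 0, 4, 3, 2, 0, 5, 4, 3, 2, 0], some ([71], [])⟩,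
  ⟨[0, 1, 2, 3, 4, 5], [0, 1, 2, 0, 3, 1, 2, 0, 3, 2, 4, 3, 1, 2, 0, 3, 2, 4, 3, 1, 5, 4, 3, 1, 2, 0, 3, 2, 4, 3, 1, 5, 4, 3, 2, 0], some ([], [])⟩]

theorem casesT_ok : ∀ c ∈ casesT, CaseTOK c := by
  decide +kernel

theorem coverT : ∀ K ∈ (List.range chevE6.rank).sublists, (∀ k ∈ K, ChevInvolution.E6.tau.getD k 0 ∈ K) →
    K ∈ casesT.map (·.K) := by
  decide +kernel

end Cfsg.Agent.TwistE6Invol
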