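import Cfsg.Agent.Lib.TwistE6Invol.Cases
import Cfsg.Agent.Lib.ChevCentralizer.Statement

/-!
# Reduction of the involutions of ²E₆(q), q even, to three representatives
-/

set_option autoImplicit false
set_option maxRecDepth 100000
set_option linter.unusedSectionVars false

namespace Cfsg.Agent.TwistE6Invol

open Cfsg.Lie Cfsg.Lie.ChevalleyDatum Cfsg.Agent.Chev Cfsg.Agent.ChevSt Cfsg.Agent.ChevBN
open Cfsg.Agent.ChevInvolution (prodL prodL_cons prodL_append stepOp run Op xg_sq nw_conj_xg U_inj root_eq_of_xg)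
open Cfsg.Agent.ChevCentralizer (xg_comm xg_pass)

section general

variable {D : ChevalleyDatum} (hD : Good D) {F : Type*} [Field F] [CharP F 2]
include hD

theorem prodL_reverse_mul (o : List ℕ) : prodL hD F o.reverse * prodL hD F o = 1 := by
  induction o with
  | nil => simp [prodL]
  | cons a o ih =>
    rw [List.reverse_cons, prodL_append hD, prodL_cons hD, prodL_cons hD]
    simp only [prodL, List.map_nil, List.prod_nil, mul_one] at ih ⊢
    rw [mul_assoc, ← mul_assoc (xg hD F a 1), xg_sq hD, one_mul, ih]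

theorem run_x : ∀ (o L L' : List ℕ), run D (o.map Op.x) L = some L' →
    prodL hD F L' = prodL hD F o.reverse * prodL hD F L * (prodL hD F o.reverse)⁻¹
  | [], L, L', h => by
    simp only [List.map_nil, run, Option.some.injEq] at h
    subst h
    simp [prodL]
  | a :: o, L, L', h => by
    simp only [List.map_cons, run, stepOp] at h
    rw [run_x o _ L' h, List.reverse_cons, prodL_append hD, prodL_append hD, prodL_cons hD]
    have ha : xg hD F a 1 * xg hD F a 1 = 1 := xg_sq hD a
    have hi : (xg hD F a 1)⁻¹ = xg hD F a 1 := inv_eq_of_mul_eq_one_right ha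
    simp only [prodL, List.map_cons, List.map_nil, List.prod_cons, List.prod_nil, mul_one, _root_.mul_inv_rev,
      hi, mul_assoc]

variable {M : List (List ℤ)} {d : ℤ} (hR : Roots D M d)

theorem run_n : ∀ (l : List (Fin D.rank)) (L L' : List ℕ),
    run D (l.map fun i => Op.n i.val) L = some L' →
    prodL hD F L' = (chevRGD hD hR F).nw l.reverse * prodL hD F L * ((chevRGD hD hR F).nw l.reverse)⁻¹
  | [], L, L', h => by
    simp only [List.map_nil, run, Option.some.injEq] at h
    subst h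
    simp
  | i :: l, L, L', h => by
    simp only [List.map_cons, run, stepOp] at h
    split_ifs at h with hi
    have e : prodL hD F (L.map (wN D i.val)) =
        (chevRGD hD hR F).n i * prodL hD F L * ((chevRGD hD hR F).n i)⁻¹ := by
      obtain ⟨-, hlt⟩ := hi
      clear h
      induction L with
      | nil => simp [prodL]
      | cons a L ih =>
        rw [List.map_cons, prodL_cons hD, prodL_cons hD, ih fun q hq => hlt q (List.mem_cons_of_mem _ hq)]
        have h1 := nw_conj_xg hD hR [i] ⟨a, hlt a (by simp)⟩ (1 : F)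
        simp only [RGD.RootData.nw_cons, RGD.RootData.nw_nil, mul_one] at h1
        rw [show xg hD F (wN D i.val a) 1 = _ from h1.symm]
        group
    rw [run_n l _ L' h, e, List.reverse_cons, RGD.RootData.nw_append, RGD.RootData.nw_cons,
      RGD.RootData.nw_nil, mul_one]
    group

theorem stepOp_swap_eq {p : ℕ} {L L' : List ℕ} (h : stepOp D (Op.swap p) L = some L') :
    prodL hD F L' = prodL hD F L := by
  simp only [stepOp] at h
  revert h
  generalize hL : L.drop p = T
  match T with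
  | [] => simp
  | [_] => simp
  | b :: a :: rest =>
    intro h
    simp only at h
    split_ifs at h with hc
    cases h
    conv_rhs => rw [← List.take_append_drop p L, hL]
    simp only [prodL_append hD, prodL_cons hD]
    congr 1
    conv_rhs => rw [← mul_assoc (xg hD F b 1), ChevInvolution.swap_eq hD hc.1 hc.2.1 hc.2.2.1 hc.2.2.2]
    simp [mul_assoc]

theorem stepOp_cancel_eq {p : ℕ} {L L' : List ℕ} (h : stepOp D (Op.cancel p) L = some L') :
    prodL hD F L' = prodL hD F L := by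
  simp only [stepOp] at h
  revert h
  generalize hL : L.drop p = T
  match T with
  | [] => simp
  | [_] => simp
  | b :: a :: rest =>
    intro h
    simp only at h
    split_ifs at h with hab
    subst hab
    cases h
    conv_rhs => rw [← List.take_append_drop p L, hL]
    simp only [prodL_append hD, prodL_cons hD]
    rw [← mul_assoc (xg hD F a 1), xg_sq hD, one_mul]

/-- Two involutions in the same coset of a subgroup of the torus are conjugate by it. -/
theorem conj_of_coset' [Fintype F] {Z : Subgroup (GL D.Idx F)} (hZ : Z ≤ D.diagonalSubgroup F)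
    {m s : GL D.Idx F} (hm : m * m = 1) (hs : s * s = 1) (hms : m * s ∈ Z) :
    ∃ e ∈ Z, e * s * e⁻¹ = m := by
  obtain ⟨k, hk⟩ : 2 ∣ Fintype.card F := by
    obtain ⟨n, -, hn⟩ := FiniteField.card F 2
    rw [hn]
    exact dvd_pow_self 2 n.ne_zero
  have hpos := Fintype.card_pos (α := F)
  set h₀ := m * s with hh₀
  set e := h₀ ^ k
  have hsq : e * e = h₀ := by
    rw [show e * e = h₀ ^ (Fintype.card F - 1 + 1) by rw [← pow_add]; congr 1; omega, pow_succ,
      ChevInvolution.diag_pow hD (hZ hms), one_mul]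
  have hinv : s * h₀ * s⁻¹ = h₀⁻¹ := by
    have hs' : s⁻¹ = s := inv_eq_of_mul_eq_one_right hs
    have hm' : m⁻¹ = m := inv_eq_of_mul_eq_one_right hm
    rw [hh₀, _root_.mul_inv_rev, hs', hm', show s * (m * s) * s = s * m * (s * s) by group, hs, mul_one]
  have hse : s * e * s⁻¹ = e⁻¹ :=
    calc s * h₀ ^ k * s⁻¹ = (s * h₀ * s⁻¹) ^ k := conj_pow.symm
      _ = e⁻¹ := by rw [hinv, inv_pow]
  refine ⟨e, pow_mem hms k, ?_⟩
  calc e * s * e⁻¹ = e * (s * e⁻¹ * s⁻¹) * s := by group
    _ = e * (s * e * s⁻¹)⁻¹ * s := by group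
    _ = h₀ * s := by rw [hse, inv_inv, hsq]
    _ = m := by rw [hh₀, mul_assoc, hs, mul_one]

/-- A product of reflection elements of commuting roots is conjugate to the product of their root
elements by the product of the opposite root elements. -/
theorem pair_conj : ∀ {S : List ℕ}, (∀ b ∈ S, b < D.nroots) → S.Nodup →
    (∀ b ∈ S, ∀ b' ∈ S, b' ≠ b → ∀ p ∈ [b, D.neg b], ∀ p' ∈ [b', D.neg b'],
      p' = p ∨ (p' ≠ D.neg p ∧ ∀ τ ∈ D.commTerms p p', τ.2.1 % 2 = 0)) →
    prodL hD F (S.map D.neg) * (S.map fun b => ng hD F (D.neg b) 1).prod * (prodL hD F (S.map D.neg))⁻¹ =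
      prodL hD F S
  | [], _, _, _ => by simp [prodL]
  | b :: S, hlt, hnd, hcomm => by
    rw [List.nodup_cons] at hnd
    have hIH := pair_conj (fun b' hb' => hlt b' (List.mem_cons_of_mem _ hb')) hnd.2
      fun b₁ h₁ b₂ h₂ => hcomm b₁ (List.mem_cons_of_mem _ h₁) b₂ (List.mem_cons_of_mem _ h₂)
    rw [List.map_cons, List.map_cons, List.prod_cons, prodL_cons hD, prodL_cons hD, ← hIH]
    have hy : ∀ b' ∈ b :: S, ng hD F (D.neg b') 1 =
        xg hD F (D.neg b') 1 * xg hD F b' 1 * xg hD F (D.neg b') 1 := fun b' hb => by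
      simp [ng, hD.neg_neg b' (hlt b' hb), CharTwo.neg_eq]
    set a := xg hD F (D.neg b) 1
    set x := xg hD F b 1
    set P := prodL hD F (S.map D.neg)
    set Q := (S.map fun b => ng hD F (D.neg b) 1).prod
    have hy' : ng hD F (D.neg b) 1 = a * x * a := hy b (by simp)
    have hc : ∀ p' ∈ [b, D.neg b], ∀ b' ∈ S, ∀ q ∈ [b', D.neg b'],
        Commute (xg hD F p' 1) (xg hD F q 1) := by
      intro p' hp' b' hb' q hq
      have hne : b' ≠ b := fun e => hnd.1 (e ▸ hb')
      refine (xg_comm hD (hcomm b (by simp) b' (List.mem_cons_of_mem _ hb') hne p' hp' q hq) ?_ ?_ 1 1).symm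
      · rcases List.mem_pair.1 hp' with rfl | rfl
        exacts [hlt _ (by simp), hD.neg_lt _ (hlt b (by simp))]
      · rcases List.mem_pair.1 hq with rfl | rfl
        exacts [hlt _ (List.mem_cons_of_mem _ hb'), hD.neg_lt _ (hlt b' (List.mem_cons_of_mem _ hb'))]
    have hc1 : ∀ p' ∈ [b, D.neg b], Commute (xg hD F p' 1) P ∧ Commute (xg hD F p' 1) Q := by
      intro p' hp'
      refine ⟨Commute.list_prod_right _ _ fun z hz => ?_, Commute.list_prod_right _ _ fun z hz => ?_⟩
      · obtain ⟨b'', hb'', rfl⟩ := List.mem_map.1 hz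
        obtain ⟨b', hb', rfl⟩ := List.mem_map.1 hb''
        exact hc p' hp' b' hb' _ (by simp)
      · obtain ⟨b', hb', rfl⟩ := List.mem_map.1 hz
        have h1 := hc p' hp' b' hb'
        rw [hy b' (List.mem_cons_of_mem _ hb')]
        exact ((h1 _ (by simp)).mul_right (h1 _ (by simp))).mul_right (h1 _ (by simp))
    have caP : Commute a P := (hc1 _ (by simp)).1
    have cxP : Commute x P := (hc1 _ (by simp)).1
    have caQ : Commute a Q := (hc1 _ (by simp)).2
    have haa : a * a = 1 := xg_sq hD _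
    rw [hy']
    calc a * P * (a * x * a * Q) * (a * P)⁻¹ = a * (P * (a * x * a)) * Q * P⁻¹ * a⁻¹ := by group
      _ = a * ((a * x * a) * P) * Q * P⁻¹ * a⁻¹ := by
        rw [((caP.mul_left cxP).mul_left caP).eq]
      _ = a * a * x * (a * (P * Q * P⁻¹) * a⁻¹) := by group
      _ = x * (P * Q * P⁻¹) := by
        rw [((caP.mul_right caQ).mul_right caP.inv_right).eq, haa, one_mul, mul_inv_cancel_right]

end general

variable {K : Type*} [Field K] (hD : Good chevE6) (φ : K →+* K)

/-- The context. -/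
local notation "CE" => TwistE6D4.ctxE6 hD φ

theorem e6_len_le : ∀ r ∈ TwistE6D4.e6Twist.reps, TwistE6D4.e6Twist.len r ≤ 2 := by decide +kernel

theorem e6_blockN : ∀ a : Fin 4, blockN a =
    (List.range (TwistE6D4.e6Twist.len (chevE6.simple (TwistE6D4.e6Node a).val))).map
      fun k => (TwistE6D4.e6Twist.pi^[k] (TwistE6D4.e6Node a)).val := by
  decide +kernel

theorem e6_pi : ∀ k : Fin chevE6.rank, (TwistE6D4.e6Twist.pi k).val = ChevInvolution.E6.tau.getD k.val 0 ∧
    TwistE6D4.e6Twist.pi (TwistE6D4.e6Twist.pi k) = k := by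
  decide +kernel

variable [CharP K 2]

theorem prodL_orbit_mem {s : ℕ} (hs : s < chevE6.nroots) : prodL hD K (orbitE s) ∈ (CE).G0 :=
  orbit_mem_G0 CE TwistE6D4.e6_long e6_len_le hs

theorem prodL_expand_mem {S : List ℕ} (hS : ∀ b ∈ S, b < chevE6.nroots) :
    prodL hD K (S.flatMap orbitE) ∈ (CE).G0 := by
  induction S with
  | nil => simp [prodL]
  | cons b S ih =>
    rw [List.flatMap_cons, prodL_append hD]
    exact mul_mem (prodL_orbit_mem hD φ (hS b (by simp))) (ih fun q hq => hS q (List.mem_cons_of_mem _ hq))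

variable {M : List (List ℤ)} {d : ℤ} (hR : Roots chevE6 M d)
include hR

theorem blockW_mem (a : Fin 4) : (chevRGD hD hR K).nw (blockW CE a) ∈ (CE).G0 := by
  rw [← n_node CE hR, ← (CE).rgd_G]
  exact (CE).rgd.n_mem_G a

theorem stepT_sound {o : TOp} {L L' : List ℕ} (h : stepT o L = some L') :
    ∃ c ∈ (CE).G0, c * prodL hD K L * c⁻¹ = prodL hD K L' := by
  cases o with
  | nb a =>
    refine ⟨_, blockW_mem hD φ hR a, ?_⟩
    have e : (blockN a).reverse.map Op.n = (blockW CE a).reverse.map (fun i => Op.n i.val) := by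
      rw [e6_blockN a, blockW, ← List.map_reverse, ← List.map_reverse, List.map_map, List.map_map]
      rfl
    simp only [stepT, e] at h
    have h1 := run_n hD hR (F := K) _ _ _ h
    rw [List.reverse_reverse] at h1
    exact h1.symm
  | xb s =>
    simp only [stepT] at h
    split_ifs at h with hs
    refine ⟨_, prodL_orbit_mem hD φ hs, ?_⟩
    have h1 := run_x hD (F := K) _ _ _ h
    rw [List.reverse_reverse] at h1
    exact h1.symm
  | swap p => exact ⟨1, one_mem _, by rw [stepOp_swap_eq hD (F := K) h]; group⟩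
  | cancel p => exact ⟨1, one_mem _, by rw [stepOp_cancel_eq hD (F := K) h]; group⟩

theorem runT_sound : ∀ (ops : List TOp) {L L' : List ℕ}, runT ops L = some L' →
    ∃ c ∈ (CE).G0, c * prodL hD K L * c⁻¹ = prodL hD K L'
  | [], L, L', h => ⟨1, one_mem _, by simp only [runT, Option.some.injEq] at h; subst h; group⟩
  | o :: os, L, L', h => by
    simp only [runT] at h
    cases hs : stepT o L with
    | none => rw [hs] at h; simp at h
    | some L₁ =>
      rw [hs] at h
      obtain ⟨c, hc, e⟩ := stepT_sound hD φ hR hs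
      obtain ⟨c', hc', e'⟩ := runT_sound os h
      refine ⟨c' * c, mul_mem hc' hc, ?_⟩
      rw [← e', ← e]
      group

variable [Fintype K]

/-- Reduction of a monomial involution by a valid case. -/
theorem conj_rep_of_case (h0 : ChevInvolution.W0OK chevE6 ChevInvolution.E6.l0 ChevInvolution.E6.tau)
    (hM : M = adjE6) {c : CaseT} (hc : CaseTOK c) {h : GL chevE6.Idx K} (hh : h ∈ (CE).H0)
    {l : List (Fin chevE6.rank)} (hlG : (chevRGD hD hR K).nw l ∈ (CE).G0)
    (hm : h * (chevRGD hD hR K).nw l * (h * (chevRGD hD hR K).nw l) = 1)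
    (hfix : ∀ i : Fin chevE6.rank, i.val ∈ c.K →
      (chevRGD hD hR K).ww l ((chevRGD hD hR K).simple i) = (chevRGD hD hR K).simple i ∨
      (chevRGD hD hR K).ww l ((chevRGD hD hR K).simple i) =
        (chevRGD hD hR K).simple (TwistE6D4.e6Twist.pi i))
    (hneg : ∀ i : Fin chevE6.rank, i.val ∉ c.K →
      ¬ (chevRGD hD hR K).pos ((chevRGD hD hR K).ww l ((chevRGD hD hR K).simple i)))
    (hstab : ∀ i : Fin chevE6.rank, i.val ∈ c.K → (TwistE6D4.e6Twist.pi i).val ∈ c.K) :
    h * (chevRGD hD hR K).nw l = 1 ∨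
      ∃ R ∈ repsT, ∃ x ∈ (CE).G0, x * (h * (chevRGD hD hR K).nw l) * x⁻¹ = prodL hD K R := by
  subst hM
  set R := chevRGD hD hR K with hRdef
  set tau := ChevInvolution.E6.tau
  obtain ⟨hlK, hKlt, hlong, hcert⟩ := hc
  have hhd : h ∈ chevE6.diagonalSubgroup K := (CE).H0_le_diagonal hh
  have hhG : h ∈ (CE).G0 := (CE).H0_le_G0 hh
  have hsq : ∀ q, R.ww l (R.ww l q) = q :=
    ChevInvolution.ww_sq hD hR hhd (hm.symm ▸ one_mem _)
  obtain ⟨lK, elK⟩ : ∃ lK : List (Fin chevE6.rank), lK.map Fin.val = c.lK :=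
    ⟨c.lK.pmap Fin.mk (fun i hi => hKlt i (hlK i hi)), by simp [List.map_pmap]⟩
  obtain ⟨w0, ew0⟩ : ∃ w0 : List (Fin chevE6.rank), w0.map Fin.val = ChevInvolution.E6.l0 :=
    ⟨ChevInvolution.E6.l0.pmap Fin.mk h0.lt, by simp [List.map_pmap]⟩
  -- coordinates after the longest element
  have hco0 : ∀ q : Fin chevE6.nroots, ∀ a < chevE6.rank,
      co chevE6 adjE6 a (R.ww w0 q).val = - co chevE6 adjE6 (tau.getD a 0) q.val := by
    intro q a ha
    obtain ⟨g, hg', e⟩ := lin_comp hD hR K w0 (isLin_co hD adjE6 a)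
    simp only [← hRdef] at e
    rw [← e]
    refine lin_ext hD hR hg' (g := fun q => - co chevE6 adjE6 (tau.getD a 0) q)
      (by simpa using (isLin_co hD adjE6 (tau.getD a 0)).smul (-1)) ?_ q.isLt
    intro i hi
    have e1 := e ⟨chevE6.simple i, hD.simple_lt i hi⟩
    rw [← ChevInvolution.wW_eq hD hR, ew0] at e1
    change g (chevE6.simple i) = co chevE6 adjE6 a (ChevInvolution.wW chevE6 ChevInvolution.E6.l0 (chevE6.simple i)) at e1
    rw [e1, h0.act i hi, hR.co_neg hD (hD.simple_lt _ (h0.tau_lt i hi).1),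
      hR.dual a ha _ (h0.tau_lt i hi).1, hR.dual _ (h0.tau_lt a ha).1 i hi]
    by_cases hai : a = tau.getD i 0
    · rw [if_pos hai, if_pos (by rw [hai, (h0.tau_lt i hi).2])]
    · rw [if_neg hai, if_neg (fun e2 => hai (by rw [← e2, (h0.tau_lt a ha).2]))]
  -- words in `K` keep the coordinates outside `K`
  have hcoK : ∀ (q : Fin chevE6.nroots) (j : ℕ), j < chevE6.rank → j ∉ c.K →
      co chevE6 adjE6 j (R.ww lK q).val = co chevE6 adjE6 j q.val := by
    intro q j hj hjK
    have : ∀ lK : List (Fin chevE6.rank), (∀ i ∈ lK, i.val ∈ c.K) →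
        co chevE6 adjE6 j (R.ww lK q).val = co chevE6 adjE6 j q.val := by
      intro lK hsub
      induction lK with
      | nil => rfl
      | cons i lK ih =>
        rw [R.ww_cons]
        show co chevE6 adjE6 j (wN chevE6 i.val (R.ww lK q).val) = _
        rw [hR.co_refl hD i.isLt (R.ww lK q).isLt hj, if_neg, sub_zero,
          ih fun i hi => hsub i (List.mem_cons_of_mem _ hi)]
        rintro rfl
        exact hjK (hsub i (by simp))
    exact this lK fun i hi => hlK _ (by rw [← elK]; exact List.mem_map.2 ⟨i, hi, rfl⟩)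
  set l' := w0 ++ lK with hl'
  -- the images of the fundamental roots of `K` under `l'`
  have hK' : ∀ k : Fin chevE6.rank, k.val ∈ c.K → ∃ k' : Fin chevE6.rank, k'.val ∈ c.K ∧
      (R.ww lK (R.simple k)) = R.neg (R.simple k') ∧
      R.ww l' (R.simple k) = R.simple ⟨tau.getD k'.val 0, (h0.tau_lt _ k'.isLt).1⟩ := by
    intro k hk
    obtain ⟨k', hk', e⟩ := hlong k.val hk
    have e1 : R.ww lK (R.simple k) = R.neg (R.simple ⟨k', hKlt k' hk'⟩) := by
      refine Fin.ext ?_
      rw [← ChevInvolution.wW_eq hD hR, elK]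
      exact e
    refine ⟨⟨k', hKlt k' hk'⟩, hk', e1, ?_⟩
    rw [hl', R.ww_append, e1, R.ww_neg]
    have e2 : R.ww w0 (R.simple ⟨k', hKlt k' hk'⟩) =
        R.neg (R.simple ⟨tau.getD k' 0, (h0.tau_lt _ (hKlt k' hk')).1⟩) := by
      refine Fin.ext ?_
      rw [← ChevInvolution.wW_eq hD hR, ew0]
      exact h0.act k' (hKlt k' hk')
    rw [e2, R.neg_neg]
  -- a root outside the span of `K` changes sign
  have houtside : ∀ (p : Fin chevE6.nroots) (j : ℕ), j < chevE6.rank → j ∉ c.K →
      0 < co chevE6 adjE6 j p.val → ¬ R.pos (R.ww l' p) := by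
    intro p j hj hjK hp hpos
    have h1 := (hR.sgn _ (R.ww l' p).isLt).1 hpos (tau.getD j 0) (h0.tau_lt j hj).1
    rw [hl', R.ww_append, hco0 _ _ (h0.tau_lt j hj).1, (h0.tau_lt j hj).2, hcoK p j hj hjK] at h1
    omega
  -- `l'` inverts the action of `l` up to the torus
  have hpos : ∀ i, R.pos (R.ww (l' ++ l) (R.simple i)) := by
    intro i
    rw [R.ww_append]
    by_cases hi : i.val ∈ c.K
    · obtain ⟨i', hi', e'⟩ : ∃ i', i'.val ∈ c.K ∧ R.ww l (R.simple i) = R.simple i' := by
        rcases hfix i hi with e | e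
        exacts [⟨i, hi, e⟩, ⟨_, hstab i hi, e⟩]
      rw [e']
      obtain ⟨k', -, -, e⟩ := hK' i' hi'
      rw [e]
      exact R.pos_simple _
    · have hn : R.pos (R.neg (R.ww l (R.simple i))) := (R.pos_neg _).2 (hneg i hi)
      set p := R.neg (R.ww l (R.simple i)) with hp
      by_cases hsupp : ∀ j < chevE6.rank, j ∉ c.K → co chevE6 adjE6 j p.val ≤ 0
      · exfalso
        apply (R.pos_neg _).1 (?_ : R.pos (R.neg (R.simple i))) (R.pos_simple i)
        have e0 : R.ww l p = R.neg (R.simple i) := by rw [hp, R.ww_neg, hsq]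
        rw [← e0]
        refine (hR.sgn _ (R.ww l p).isLt).2 fun a ha => ?_
        obtain ⟨g, hg', e⟩ := lin_comp hD hR K l (isLin_co hD adjE6 a)
        simp only [← hRdef] at e
        rw [← e p]
        refine nonneg_of_mul_nonneg_right ?_ hR.d_pos
        rw [ChevInvolution.lin_expand hD hR hg' p.isLt]
        refine List.sum_nonneg fun x hx => ?_
        obtain ⟨b, hb, rfl⟩ := List.mem_map.1 hx
        have hb' := List.mem_range.1 hb
        by_cases hbK : b ∈ c.K
        · refine mul_nonneg ?_ ((hR.sgn _ p.isLt).1 hn b hb')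
          have h4 := e (R.simple ⟨b, hb'⟩)
          change g (chevE6.simple b) = _ at h4
          rw [h4]
          refine (hR.sgn _ (Fin.isLt _)).1 ?_ a ha
          rcases hfix ⟨b, hb'⟩ hbK with e' | e' <;> rw [e'] <;> exact R.pos_simple _
        · rw [le_antisymm (hsupp b hb' hbK) ((hR.sgn _ p.isLt).1 hn b hb'), mul_zero]
      · push Not at hsupp
        obtain ⟨j, hj, hjK, hjp⟩ := hsupp
        have h1 := houtside p j hj hjK hjp
        rw [← R.neg_neg (R.ww l (R.simple i)), ← hp, R.ww_neg]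
        exact (R.pos_neg _).2 h1
  have hcos := ChevInvolution.mem_H_of_fix hD hR hpos
  rw [R.nw_append] at hcos
  have hww : ∀ q, R.ww l' q = R.ww l q := by
    intro q
    have h1 := R.map_conj_U (l' ++ l) (R.ww l q)
    rw [R.nw_append, R.map_conj_H_U hcos, R.ww_append, hsq] at h1
    exact (U_inj hD hR h1).symm
  rcases hcase : c.cert with _ | ⟨S0, ops⟩ <;> rw [hcase] at hcert
  · obtain ⟨k, hk, k', hk', e, hne, hne'⟩ := hcert
    obtain ⟨k'', -, e1, e2⟩ := hK' ⟨k, hKlt k hk⟩ hk
    exfalso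
    have e3 : R.simple k'' = R.simple ⟨k', hKlt k' hk'⟩ := by
      have e4 : R.neg (R.simple k'') = R.neg (R.simple ⟨k', hKlt k' hk'⟩) := by
        rw [← e1]
        refine Fin.ext ?_
        rw [← ChevInvolution.wW_eq hD hR, elK]
        exact e
      rw [← R.neg_neg (R.simple k''), e4, R.neg_neg]
    have e5 := hww (R.simple ⟨k, hKlt k hk⟩)
    rw [e2] at e5
    rcases hfix ⟨k, hKlt k hk⟩ hk with e' | e' <;> rw [e'] at e5
    · have e6 := congrArg Fin.val (R.simple_inj e5)
      simp only [R.simple_inj e3] at e6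
      exact hne e6
    · have e6 := congrArg Fin.val (R.simple_inj e5)
      simp only [R.simple_inj e3, (e6_pi ⟨k, hKlt k hk⟩).1] at e6
      exact hne' e6
  obtain ⟨hS0, hSlt, hnd, hcomm, hsig, hfin⟩ := hcert
  set S := expandS S0 with hSdef
  set m := h * R.nw l with hm0
  have hmG : m ∈ (CE).G0 := mul_mem hhG hlG
  -- the product of the reflections
  set s₀ := (S.map fun b => ng hD K (chevE6.neg b) 1).prod with hs₀
  have hSG : prodL hD K S ∈ (CE).G0 := prodL_expand_mem hD φ fun b hb => (hS0 b hb).1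
  set cj := prodL hD K (S.map chevE6.neg) with hcj
  have hcjG : cj ∈ (CE).G0 := by
    have e : S.map chevE6.neg = (S0.map chevE6.neg).flatMap orbitE := by
      rw [hSdef, expandS, List.map_flatMap, List.flatMap_map]
      exact List.flatMap_congr fun b hb => (hS0 b hb).2.symm
    rw [hcj, e]
    exact prodL_expand_mem hD φ fun b hb => by
      obtain ⟨b', hb', rfl⟩ := List.mem_map.1 hb
      exact hD.neg_lt _ (hS0 b' hb').1
  have hcje : cj * s₀ * cj⁻¹ = prodL hD K S := pair_conj hD hSlt hnd hcomm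
  have hs₀eq : s₀ = cj⁻¹ * prodL hD K S * cj := by rw [← hcje]; group
  have hs₀G : s₀ ∈ (CE).G0 := by
    rw [hs₀eq]; exact mul_mem (mul_mem (inv_mem hcjG) hSG) hcjG
  have hs2 : s₀ * s₀ = 1 := by
    have h1 : prodL hD K S * prodL hD K S = 1 := by
      refine ChevInvolution.prodL_sq hD hSlt fun a ha b hb => ?_
      by_cases hab : b = a
      · exact Or.inl hab
      · exact hcomm a ha b hb hab a (by simp) b (by simp)
    rw [hs₀eq, show cj⁻¹ * prodL hD K S * cj * (cj⁻¹ * prodL hD K S * cj) =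
      cj⁻¹ * (prodL hD K S * prodL hD K S) * cj by group, h1]
    group
  -- `s₀` is monomial with the same action as `m`
  have hs₀N : s₀ ∈ R.N := by
    refine list_prod_mem fun x hx => ?_
    obtain ⟨b, hb, rfl⟩ := List.mem_map.1 hx
    exact ng_mem_monomial hD hR (hD.neg_lt b (hSlt b hb))
  have hs₀act : ∀ (q : Fin chevE6.nroots) (t : K), ∃ (hlt : ChevInvolution.sigma chevE6 S q.val < chevE6.nroots),
      s₀ * xg hD K q.val t * s₀⁻¹ =
        xg hD K (⟨ChevInvolution.sigma chevE6 S q.val, hlt⟩ : Fin chevE6.nroots).val t := by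
    intro q t
    clear hfin hsig hnd hcomm hcje hs2 hs₀N hs₀G hs₀eq hSG hcjG hcase
    clear_value S
    clear hSdef hcj cj
    rw [hs₀]
    clear hs₀ s₀
    induction S with
    | nil => exact ⟨q.isLt, by simp [ChevInvolution.sigma]⟩
    | cons b S ih =>
      obtain ⟨hlt, e⟩ := ih fun b' hb' => hSlt b' (List.mem_cons_of_mem _ hb')
      have hb := hD.neg_lt b (hSlt b (by simp))
      refine ⟨refl_lt hD hb hlt, ?_⟩
      set Q := (S.map fun b => ng hD K (chevE6.neg b) 1).prod
      rw [List.map_cons, List.prod_cons, show ng hD K (chevE6.neg b) 1 * Q * xg hD K q.val t *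
          (ng hD K (chevE6.neg b) 1 * Q)⁻¹ =
        ng hD K (chevE6.neg b) 1 * (Q * xg hD K q.val t * Q⁻¹) * (ng hD K (chevE6.neg b) 1)⁻¹ by group, e,
        mul_inv_eq_iff_eq_mul]
      apply Units.ext
      simp only [Units.val_mul, coe_ng, coe_xg, nMat_conj hD hb hlt one_ne_zero, one_zpow, mul_one]
      rcases (nSign_cases hD hb hlt).1 with e1 | e1 <;> simp only [ChevInvolution.sigma] at e1 <;>
        simp [e1, CharTwo.neg_eq, ChevInvolution.sigma]
  obtain ⟨h₁, hh₁, l₁, el₁⟩ := R.mem_N_iff.1 hs₀N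
  have hact : ∀ i, R.ww l₁ (R.simple i) = R.ww l (R.simple i) := by
    intro i
    obtain ⟨hlt, e⟩ := hs₀act (R.simple i) 1
    have h1 : R.ww l₁ (R.simple i) = ⟨ChevInvolution.sigma chevE6 S (chevE6.simple i.val), hlt⟩ := by
      have h2 : s₀ * xg hD K (R.simple i).val 1 * s₀⁻¹ ∈ R.U (R.ww l₁ (R.simple i)) := by
        rw [el₁]
        exact R.conj_U_mem (R.map_conj_H_nw hh₁ l₁ _) (xg_mem_rootSubgroup hD _ _)
      rw [e] at h2
      obtain ⟨t, ht⟩ := (mem_rootSubgroup hD _).1 h2
      exact Fin.ext (root_eq_of_xg hD hlt (R.ww l₁ (R.simple i)).isLt ht).symm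
    rw [h1, ← hww]
    refine Fin.ext (hR.root_ext hlt (R.ww l' _).isLt fun a ha => ?_)
    rw [hl', R.ww_append, hco0 _ a ha, hsig i.val i.isLt a ha, ← ChevInvolution.wW_eq hD hR (F := K) lK, elK]
    rfl
  have hsq₁ : ∀ q, R.ww l₁ (R.ww l₁ q) = q :=
    ChevInvolution.ww_sq hD hR hh₁ (by rw [← el₁, hs2]; exact one_mem _)
  have hcos₁ : R.nw l * R.nw l₁ ∈ chevE6.diagonalSubgroup K := by
    rw [← R.nw_append]
    refine ChevInvolution.mem_H_of_fix hD hR fun i => ?_
    rw [R.ww_append, hact, hsq]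
    exact R.pos_simple i
  have hms : m * s₀ ∈ chevE6.diagonalSubgroup K := by
    rw [hm0, el₁, show h * R.nw l * (h₁ * R.nw l₁) =
      h * (R.nw l * h₁ * (R.nw l)⁻¹) * (R.nw l * R.nw l₁) by group]
    exact mul_mem (mul_mem hhd (R.nw_conj_H l hh₁)) hcos₁
  obtain ⟨e, he, hee⟩ := conj_of_coset' hD (Z := chevE6.diagonalSubgroup K ⊓ (CE).G0) inf_le_left hm hs2
    ⟨hms, mul_mem hmG hs₀G⟩
  have heG : e ∈ (CE).G0 := he.2
  rcases hfin with hnil | ⟨Rp, hRp, hrun⟩
  · left
    rw [← hee]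
    have h1 : s₀ = 1 := by simp [hs₀, hnil]
    rw [h1, mul_one, mul_inv_cancel]
  · right
    obtain ⟨c₁, hc₁, e₁⟩ := runT_sound hD φ hR ops hrun
    refine ⟨Rp, hRp, c₁ * cj * e⁻¹, mul_mem (mul_mem hc₁ hcjG) (inv_mem heG), ?_⟩
    rw [← e₁, ← hcje, ← hee]
    group

/-- Every involution is conjugate to one of the four targets. -/
theorem exists_conj_repT (h0 : ChevInvolution.W0OK chevE6 ChevInvolution.E6.l0 ChevInvolution.E6.tau)
    (hM : M = adjE6) {t : GL chevE6.Idx K} (ht : t ∈ (CE).G0) (ht1 : t ≠ 1) (htt : t * t = 1) :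
    ∃ R ∈ repsT, ∃ x ∈ (CE).G0, x * t * x⁻¹ = prodL hD K R := by
  classical
  obtain ⟨c, hc, h, hh, l, hlG, e, hm, hform⟩ := exists_monomial CE hR TwistE6D4.e6_long ht htt
  set R := chevRGD hD hR K with hRdef
  have hpi : ∀ (i : ℕ) (k : Fin chevE6.rank),
      TwistE6D4.e6Twist.pi^[i] k = k ∨ TwistE6D4.e6Twist.pi^[i] k = TwistE6D4.e6Twist.pi k := by
    intro i k
    induction i with
    | zero => exact Or.inl rfl
    | succ i ih =>
      rw [Function.iterate_succ_apply']
      rcases ih with e | e <;> rw [e]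
      exacts [Or.inr rfl, Or.inl (e6_pi k).2]
  have hfix0 : ∀ k : Fin chevE6.rank, R.pos (R.ww l (R.simple k)) →
      (R.ww l (R.simple k) = R.simple k ∨ R.ww l (R.simple k) = R.simple (TwistE6D4.e6Twist.pi k)) ∧
        R.pos (R.ww l (R.simple (TwistE6D4.e6Twist.pi k))) := by
    intro k hk
    refine ⟨?_, ?_⟩
    · rcases hform k with ⟨hn, -⟩ | ⟨i, ei⟩
      · exact absurd hk hn
      · rcases hpi i k with e' | e' <;> rw [show (CE).T.pi^[i] k = _ from e'] at ei
        exacts [Or.inl (Fin.ext ei), Or.inr (Fin.ext ei)]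
    · rcases hform (TwistE6D4.e6Twist.pi k) with ⟨-, hn⟩ | ⟨i, ei⟩
      · refine absurd hk ?_
        have := hn 1
        rwa [Function.iterate_one, show (CE).T.pi (TwistE6D4.e6Twist.pi k) = k from (e6_pi k).2] at this
      · exact (congrArg R.pos (Fin.ext ei : R.ww l _ = R.simple _)).mpr (R.pos_simple _)
  set Ks := (List.range chevE6.rank).filter fun i =>
    decide (∃ hi : i < chevE6.rank, R.pos (R.ww l (R.simple ⟨i, hi⟩))) with hKdef
  have hmem : ∀ i : Fin chevE6.rank, i.val ∈ Ks ↔ R.pos (R.ww l (R.simple i)) := by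
    intro i
    rw [hKdef, List.mem_filter]
    simp [i.isLt]
  have hst : ∀ k ∈ Ks, ChevInvolution.E6.tau.getD k 0 ∈ Ks := by
    intro k hk
    have hlt : k < chevE6.rank := List.mem_range.1 (List.mem_of_mem_filter hk)
    rw [← (e6_pi ⟨k, hlt⟩).1]
    exact (hmem _).2 (hfix0 _ ((hmem ⟨k, hlt⟩).1 hk)).2
  obtain ⟨cs, hcs, hcsK⟩ := List.mem_map.1 (coverT Ks (List.mem_sublists.2 List.filter_sublist) hst)
  rcases conj_rep_of_case hD φ hR h0 hM (casesT_ok cs hcs) hh hlG hm
    (fun i hi => (hfix0 i ((hmem i).1 (hcsK ▸ hi))).1)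
    (fun i hi hp => hi (hcsK.symm ▸ (hmem i).2 hp))
    (fun i hi => hcsK.symm ▸ (hmem _).2 (hfix0 i ((hmem i).1 (hcsK ▸ hi))).2) with h1 | ⟨Rp, hRp, x, hx, ex⟩
  · exfalso
    apply ht1
    rw [h1] at e
    calc t = c⁻¹ * (c * t * c⁻¹) * c := by group
      _ = 1 := by rw [e]; group
  · refine ⟨Rp, hRp, x * c, mul_mem hx hc, ?_⟩
    rw [← ex, ← e]
    group

omit hR in
/-- The further target reduces to the second representative. -/
theorem extra_conj {μ : K} (h2 : φ (φ μ) = μ) (h1 : μ + φ μ = 1) :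
    ∃ x ∈ (CE).G0, x * prodL hD K [68, 66] * x⁻¹ = prodL hD K [71, 68, 66] := by
  have hs : (48 : ℕ) ∈ (CE).T.reps := (show 48 ∈ TwistE6D4.e6Twist.reps from by decide +kernel)
  have hl : (CE).T.len 48 = 2 := (show TwistE6D4.e6Twist.len 48 = 2 from by decide +kernel)
  have hρ : TwistE6D4.e6Twist.rho 48 = 50 := by decide +kernel
  have hP : TwistE6D4.orb hD (CE).T φ 48 μ ∈ (CE).G0 :=
    (CE).Uo_le_G0 TwistE6D4.e6_long ⟨48, hs⟩ ((CE).orb_mem_Uo hs (by rw [hl]; exact h2))
  have hPeq : TwistE6D4.orb hD (CE).T φ 48 μ = xg hD K 48 μ * xg hD K 50 (φ μ) := by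
    have he : ∀ i, (TwistE6D4.esgn (CE).T 48 i : K) = 1 := esgn_eq_one CE (by decide +kernel)
    rw [TwistE6D4.orb, hl]
    simp [List.range_succ, TwistE6D4.cf, he, hρ, TwistE6D4.xg_eq]
  refine ⟨_, hP, ?_⟩
  rw [hPeq]
  have hlt : ∀ q ∈ ([48, 50, 66, 68, 71] : List ℕ), q < chevE6.nroots := by decide +kernel
  have hc : ∀ a ∈ ([48, 50, 66, 68, 71] : List ℕ), ∀ b ∈ ([48, 50, 66, 68, 71] : List ℕ),
      (a, b) ∉ [(48, 68), (68, 48), (50, 66), (66, 50)] → ChevInvolution.Comm chevE6 a b := by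
    decide +kernel
  have C' : ∀ (a b : ℕ) (u v : K), a ∈ ([48, 50, 66, 68, 71] : List ℕ) → b ∈ ([48, 50, 66, 68, 71] : List ℕ) →
      (a, b) ∉ [(48, 68), (68, 48), (50, 66), (66, 50)] → Commute (xg hD K b v) (xg hD K a u) :=
    fun a b u v ha hb hab => xg_comm hD (hc a ha b hb hab) (hlt a ha) (hlt b hb) u v
  have pass : ∀ a s : ℕ, (a, s) ∈ [(48, 68), (50, 66)] → ∀ v : K,
      xg hD K a v * xg hD K s 1 * (xg hD K a v)⁻¹ = xg hD K s 1 * xg hD K 71 v := by
    intro a s has v
    have h3 : a < chevE6.nroots ∧ s < chevE6.nroots ∧ a ≠ s ∧ a ≠ chevE6.neg s ∧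
        (chevE6.commTerms s a).map (fun τ => (τ.1, τ.2.1 % 2, τ.2.2)) = [(71, 1, 1, 1)] := by
      revert has; revert a s; intro a s has
      simp only [List.mem_cons, List.not_mem_nil, or_false, Prod.mk.injEq] at has
      rcases has with ⟨rfl, rfl⟩ | ⟨rfl, rfl⟩ <;> decide +kernel
    obtain ⟨ha, hs', h4, h5, h6⟩ := h3
    have h7 := xg_pass hD (F := K) hs' ha h4 h5 1 v
    obtain ⟨⟨τ1, τ2, τ3, τ4⟩, e7⟩ : ∃ τ, chevE6.commTerms s a = [τ] := by
      rw [List.map_eq_singleton_iff] at h6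
      exact ⟨_, h6.choose_spec.1⟩
    rw [e7] at h6
    simp only [List.map_cons, List.map_nil, List.cons.injEq, Prod.mk.injEq, and_true] at h6
    obtain ⟨r1, r2, r3, r4⟩ := h6
    subst r1 r3 r4
    have ho : ((τ2 : ℤ) : K) = 1 := ChevCentralizer.intCast_eq_one (by omega)
    simp only [ChevalleyDatum.commWord, e7, List.map_cons, List.map_nil, List.prod_cons, List.prod_nil, mul_one, ho,
      pow_one, one_mul] at h7
    rw [h7]
    have hcm : Commute (xg hD K a v) (xg hD K 71 v) := (C' a 71 v v ?_ (by simp) ?_).symm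
    · simp only [mul_assoc]
      simp [CharTwo.neg_eq, ← mul_assoc, hcm.eq]
    · simp only [List.mem_cons, List.not_mem_nil, or_false, Prod.mk.injEq] at has ⊢
      omega
    · simp only [List.mem_cons, List.not_mem_nil, or_false, Prod.mk.injEq] at has ⊢
      omega
  set A := xg hD K 48 μ
  set B := xg hD K 50 (φ μ)
  set X := xg hD K 68 (1 : K)
  set Y := xg hD K 66 (1 : K)
  have hA : A * X * A⁻¹ = X * xg hD K 71 μ := pass 48 68 (by simp) μ
  have hB : B * Y * B⁻¹ = Y * xg hD K 71 (φ μ) := pass 50 66 (by simp) (φ μ)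
  have hBX : Commute B X := C' 68 50 1 (φ μ) (by simp) (by simp) (by simp)
  have hAY : Commute A Y := C' 66 48 1 μ (by simp) (by simp) (by simp)
  have hA7 : Commute A (xg hD K 71 (φ μ)) := C' 71 48 (φ μ) μ (by simp) (by simp) (by simp)
  have hY7 : Commute Y (xg hD K 71 μ) := C' 71 66 μ 1 (by simp) (by simp) (by simp)
  have h7X : ∀ v : K, Commute (xg hD K 71 v) X := fun v => C' 68 71 1 v (by simp) (by simp) (by simp)
  have h7Y : ∀ v : K, Commute (xg hD K 71 v) Y := fun v => C' 66 71 1 v (by simp) (by simp) (by simp)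
  have e7 : xg hD K 71 μ * xg hD K 71 (φ μ) = xg hD K 71 1 := by
    rw [xg_add hD (hlt 71 (by simp)), h1]
  simp only [prodL, List.map_cons, List.map_nil, List.prod_cons, List.prod_nil, mul_one]
  calc A * B * (X * Y) * (A * B)⁻¹ = A * ((B * X * B⁻¹) * (B * Y * B⁻¹)) * A⁻¹ := by group
    _ = A * (X * (Y * xg hD K 71 (φ μ))) * A⁻¹ := by rw [hBX.eq, mul_inv_cancel_right, hB]
    _ = (A * X * A⁻¹) * (A * (Y * xg hD K 71 (φ μ)) * A⁻¹) := by group
    _ = X * xg hD K 71 μ * (Y * xg hD K 71 (φ μ)) := by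
      rw [hA, (hAY.mul_right hA7).eq, mul_inv_cancel_right]
    _ = X * Y * (xg hD K 71 μ * xg hD K 71 (φ μ)) := by
      simp only [mul_assoc]; rw [← mul_assoc (xg hD K 71 μ) Y, (h7Y μ).eq, mul_assoc]
    _ = xg hD K 71 1 * (X * Y) := by
      rw [e7, ((h7X 1).mul_right (h7Y 1)).eq]

end Cfsg.Agent.TwistE6Invol
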