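import Cfsg.Agent.Lib.TwistE6Invol.Classify
import Cfsg.Agent.Lib.ChevCentralizer.E6Tables
import Cfsg.Agent.Lib.Chev.All

/-!
# The number of involution classes of ²E₆(q), q even
-/

set_option autoImplicit false
set_option maxRecDepth 100000
set_option linter.unusedSectionVars false

namespace Cfsg.Agent.TwistE6Invol

open Cfsg.Lie Cfsg.Agent.Chev Cfsg.Agent.ChevBN
open Cfsg.Agent.ChevInvolution (prodL)

/-- Classes of elements of order two from a list of representatives. -/
theorem ncard_of_reps {Γ : Type*} [Group Γ] (G : Subgroup Γ) {n : ℕ} (f : Fin n → Γ)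
    (hmem : ∀ i, f i ∈ G) (hord : ∀ i, orderOf (f i) = 2)
    (hred : ∀ t ∈ G, t ≠ 1 → t * t = 1 → ∃ i, ∃ x ∈ G, x * t * x⁻¹ = f i)
    (hsep : ∀ i j, i < j → ∀ g ∈ G, g * f j * g⁻¹ ≠ f i) :
    (ConjClasses.mk '' {g : ↥G | orderOf g = 2}).ncard = n := by
  classical
  set F : Fin n → ConjClasses ↥G := fun i => ConjClasses.mk ⟨f i, hmem i⟩ with hF
  have himg : ConjClasses.mk '' {g : ↥G | orderOf g = 2} = Set.range F := by
    ext C
    constructor
    · rintro ⟨g, hg, rfl⟩
      have ho : orderOf (g : Γ) = 2 := by rw [Subgroup.orderOf_coe]; exact hg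
      obtain ⟨i, x, hx, e⟩ := hred g g.2 (fun e => by rw [e, orderOf_one] at ho; omega)
        (by rw [← sq, ← ho, pow_orderOf_eq_one])
      exact ⟨i, (ConjClasses.mk_eq_mk_iff_isConj.2 (isConj_iff.2 ⟨⟨x, hx⟩, Subtype.ext e⟩)).symm⟩
    · rintro ⟨i, rfl⟩
      refine ⟨⟨f i, hmem i⟩, ?_, rfl⟩
      show orderOf (⟨f i, hmem i⟩ : ↥G) = 2
      rw [Subgroup.orderOf_mk]
      exact hord i
  rw [himg, ← Set.image_univ, Set.InjOn.ncard_image ?_, Set.ncard_univ, Nat.card_fin]
  intro i _ j _ e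
  by_contra hij
  obtain ⟨⟨x, hx⟩, hc⟩ := isConj_iff.1 (ConjClasses.mk_eq_mk_iff_isConj.1 e)
  have hc' : x * f i * x⁻¹ = f j := congrArg Subtype.val hc
  rcases lt_or_gt_of_ne hij with h | h
  · refine hsep i j h x⁻¹ (inv_mem hx) ?_
    rw [← hc']; group
  · exact hsep j i h x hx hc'

theorem exists_mu {K : Type*} [Field K] [Fintype K] [CharP K 2] {q : ℕ} (hq : 2 ≤ q)
    (hK : Fintype.card K = q ^ 2) {φ : K →+* K} (hφ : ∀ t, φ t = t ^ q) :
    ∃ μ : K, φ (φ μ) = μ ∧ μ + φ μ = 1 := by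
  have h2 : ∀ t, φ (φ t) = t := fun t => by rw [hφ, hφ, ← pow_mul, ← sq, ← hK, FiniteField.pow_card]
  obtain ⟨g, hg⟩ := IsCyclic.exists_ofOrder_eq_natCard (α := Kˣ)
  rw [Nat.card_units, Nat.card_eq_fintype_card, hK] at hg
  set a : K := (g : K)
  have ha : φ a ≠ a := by
    intro e
    rw [hφ] at e
    have h1 : g ^ (q - 1) = 1 := by
      have e' : a ^ (q - 1) * a = a := by rw [← pow_succ, Nat.sub_add_cancel (by omega), e]
      exact Units.ext (by simpa using mul_eq_right₀ g.ne_zero |>.1 e')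
    have h3 := Nat.le_of_dvd (by omega) (hg ▸ orderOf_dvd_of_pow_eq_one h1)
    nlinarith [Nat.sub_add_cancel (show 1 ≤ q ^ 2 by nlinarith), Nat.sub_add_cancel (show 1 ≤ q by omega)]
  have hne : a + φ a ≠ 0 := fun e => ha (CharTwo.add_eq_zero.1 e).symm
  refine ⟨a / (a + φ a), h2 _, ?_⟩
  rw [map_div₀, map_add, h2 a, add_comm (φ a) a, ← add_div, div_self hne]

/-- The involution classes of the twisted group. -/
theorem ncard_classes {K : Type*} [Field K] [Fintype K] [CharP K 2] (q : ℕ) (hK : Fintype.card K = q ^ 2) :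
    (ConjClasses.mk '' {g : ↥(twistedE6 K q) | orderOf g = 2}).ncard = 3 := by
  have hD := DataE6.good
  have hR := rootsE6
  obtain ⟨n, -, hn⟩ := FiniteField.card K 2
  have hq : IsPrimePow q := by
    obtain ⟨k, -, rfl⟩ := (Nat.dvd_prime_pow Nat.prime_two).1
      ((dvd_pow_self q two_ne_zero).trans (hK ▸ hn ▸ dvd_rfl) : q ∣ 2 ^ (n : ℕ))
    refine ⟨2, k, Nat.prime_two.prime, Nat.pos_of_ne_zero ?_, rfl⟩
    rintro rfl
    have := hK ▸ Fintype.one_lt_card (α := K)
    simp at this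
  obtain ⟨φ, hG, hφ, -, hq2, -⟩ := TwistE6D4.exists_ctxE6 hD hq hK
  obtain ⟨μ, hμ2, hμ1⟩ := exists_mu hq2 hK hφ
  rw [hG]
  set G := (TwistE6D4.ctxE6 hD φ).G0
  have hle : G ≤ chevE6.group K := (TwistE6D4.ctxE6 hD φ).G0_le_group
  have hlt : ∀ q ∈ ([55, 65, 66, 67, 68, 71] : List ℕ), q < chevE6.nroots := by decide +kernel
  -- the order of the last representative
  have hswap : prodL hD K [55, 67, 65] = prodL hD K [55, 65, 67] := by
    simp only [prodL, List.map_cons, List.map_nil, List.prod_cons, List.prod_nil, mul_one]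
    rw [(ChevCentralizer.xg_comm hD (show ChevInvolution.Comm chevE6 65 67 by decide +kernel)
      (hlt 65 (by simp)) (hlt 67 (by simp)) 1 1).eq]
  have hmem : ∀ i : Fin 3, prodL hD K (([[71], [68, 66], [55, 65, 67]] : List (List ℕ))[i.val]'i.isLt) ∈ G := by
    intro i
    fin_cases i
    · have h := prodL_orbit_mem hD φ (s := 71) (hlt 71 (by simp))
      rwa [show orbitE 71 = [71] by decide +kernel] at h
    · have h := prodL_orbit_mem hD φ (s := 68) (hlt 68 (by simp))
      rwa [show orbitE 68 = [68, 66] by decide +kernel] at h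
    · have h := prodL_expand_mem hD φ (S := [55, 65]) (fun b hb => hlt b (by simp at hb ⊢; omega))
      rw [show ([55, 65] : List ℕ).flatMap orbitE = [55, 67, 65] by decide +kernel, hswap] at h
      exact h
  refine ncard_of_reps G (n := 3)
    (fun i => prodL hD K (([[71], [68, 66], [55, 65, 67]] : List (List ℕ))[i.val]'i.isLt)) hmem ?_ ?_ ?_
  · intro i
    have ho : ∀ S T, ChevInvolution.Supp chevE6 S T → ChevInvolution.RepOK chevE6 S →
        orderOf (prodL hD K S) = 2 := fun S T hs h =>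
      orderOf_eq_prime (by rw [sq]; exact ChevInvolution.prodL_sq hD h.2.1 h.2.2)
        (ChevInvolution.prodL_ne_one hD hs h.1)
    fin_cases i
    · exact ho _ _ ChevInvolution.E6.supp0_ok (by decide +kernel)
    · exact ho _ _ ChevInvolution.E6.supp1_ok (by decide +kernel)
    · exact ho _ _ ChevInvolution.E6.supp2_ok (by decide +kernel)
  · intro t ht ht1 htt
    obtain ⟨R, hRmem, x, hx, e⟩ :=
      exists_conj_repT hD φ hR ChevInvolution.E6.w0OK rfl ht ht1 htt
    simp only [repsT, List.mem_cons, List.not_mem_nil, or_false] at hRmem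
    rcases hRmem with rfl | rfl | rfl | rfl
    · exact ⟨0, x, hx, e⟩
    · exact ⟨1, x, hx, e⟩
    · exact ⟨2, x, hx, e.trans hswap⟩
    · obtain ⟨y, hy, ey⟩ := extra_conj hD φ hμ2 hμ1
      refine ⟨1, y⁻¹ * x, mul_mem (inv_mem hy) hx, ?_⟩
      show _ = prodL hD K [68, 66]
      rw [show y⁻¹ * x * t * (y⁻¹ * x)⁻¹ = y⁻¹ * (x * t * x⁻¹) * y by group, e, ← ey]
      group
  · intro i j hij g hg
    fin_cases i <;> fin_cases j <;> simp at hij
    · exact ChevInvolution.not_conj hD hR ChevInvolution.E6.supp1_ok ChevInvolution.E6.supp0_ok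
        ChevInvolution.E6.sep10 (hle hg)
    · exact ChevInvolution.not_conj hD hR ChevInvolution.E6.supp2_ok ChevInvolution.E6.supp0_ok
        ChevInvolution.E6.sep20 (hle hg)
    · exact ChevInvolution.not_conj hD hR ChevInvolution.E6.supp2_ok ChevInvolution.E6.supp1_ok
        ChevInvolution.E6.sep21 (hle hg)

end Cfsg.Agent.TwistE6Invol
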